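import Groth.Agent.Lib.CohFound.Bridge
import Groth.Agent.Lib.CohFound.Flasque
import Groth.Agent.Lib.TopDimLib.Basic
import Groth.Agent.Lib.ModM1.Coh

/-!
# Sheaves supported at finitely many closed points
-/

universe u
open CategoryTheory Limits TopologicalSpace Opposite

namespace Groth.Agent.Supp18

variable {X : TopCat.{u}} (F : CohTop.Ab X) {S : Set X}

/-- Sections of a sheaf supported at finitely many closed points extend from an open subset. -/
theorem exists_extend (hfin : S.Finite) (hcl : ∀ x ∈ S, IsClosed ({x} : Set X))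
    (hS : ∀ x, x ∉ S → Subsingleton ((TopCat.Sheaf.presheaf F).stalk x)) {U V : Opens X} (h : V ≤ U)
    (s : F.obj.obj (op V)) : ∃ t : F.obj.obj (op U), F.obj.map (homOfLE h).op t = s := by
  have hT : IsClosed (S ∩ (V : Set X)) := by
    rw [← Set.biUnion_of_singleton (S ∩ (V : Set X))]
    exact (hfin.inter_of_left _).isClosed_biUnion fun x hx => hcl x hx.1
  let W : Opens X := U ⊓ ⟨(S ∩ (V : Set X))ᶜ, hT.isOpen_compl⟩
  let Ws : ULift.{u} Bool → Opens X := fun b => cond b.down V W
  let sf : ∀ b, F.obj.obj (op (Ws b)) := fun b => match b with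
    | ⟨true⟩ => s
    | ⟨false⟩ => 0
  have hVW : F.obj.map (homOfLE (inf_le_left : V ⊓ W ≤ V)).op s = 0 := by
    refine TopCat.Presheaf.section_ext F (V ⊓ W) _ 0 fun x hx => ?_
    haveI := hS x fun hxS => hx.2.2 ⟨hxS, hx.1⟩
    exact Subsingleton.elim _ _
  have hcompat : TopCat.Presheaf.IsCompatible F.obj Ws sf := by
    rintro ⟨b⟩ ⟨c⟩
    cases b <;> cases c
    · rfl
    · show F.obj.map _ (0 : F.obj.obj (op W)) = F.obj.map _ s
      rw [map_zero]
      have := congrArg (F.obj.map (homOfLE (le_of_eq (inf_comm W V))).op) hVW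
      rw [map_zero, ← ConcreteCategory.comp_apply, ← Functor.map_comp] at this
      exact this.symm
    · show F.obj.map _ s = F.obj.map _ (0 : F.obj.obj (op W))
      rw [map_zero]
      exact hVW
    · rfl
  obtain ⟨t, ht, -⟩ := TopCat.Sheaf.existsUnique_gluing' F Ws U
    (fun b => homOfLE (by rcases b with ⟨b⟩; cases b; exacts [inf_le_left, h]))
    (fun x hx => by
      rw [Opens.mem_iSup]
      by_cases hxV : x ∈ V
      · exact ⟨⟨true⟩, hxV⟩
      · exact ⟨⟨false⟩, hx, fun h' => hxV h'.2⟩)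
    sf hcompat
  exact ⟨t, ht ⟨true⟩⟩

theorem isFlasque (hfin : S.Finite) (hcl : ∀ x ∈ S, IsClosed ({x} : Set X))
    (hS : ∀ x, x ∉ S → Subsingleton ((TopCat.Sheaf.presheaf F).stalk x)) : TopCat.Sheaf.IsFlasque F :=
  CohFound.isFlasque_mk F fun _ _ h s => exists_extend F hfin hcl hS h s

/-- A subset of dimension zero of a noetherian sober space, if closed, consists of finitely many closed points. -/
theorem finite_and_isClosed [NoetherianSpace X] [T0Space X] (hcS : IsClosed S) (hd : topologicalKrullDim S ≤ 0) :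
    S.Finite ∧ ∀ x ∈ S, IsClosed ({x} : Set X) := by
  rcases S.eq_empty_or_nonempty with rfl | hne
  · exact ⟨Set.finite_empty, fun x hx => hx.elim⟩
  haveI : Nonempty S := hne.to_subtype
  obtain ⟨hf, hdis⟩ := TopDimLib.dim_eq_zero_iff.1 (le_antisymm hd TopDimLib.zero_le_dim)
  haveI := hdis
  refine ⟨Set.finite_coe_iff.1 hf, fun x hx => ?_⟩
  have := hcS.isClosedEmbedding_subtypeVal.isClosedMap _ (isClosed_discrete ({⟨x, hx⟩} : Set S))
  simpa using this

end Groth.Agent.Supp18
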